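import Groth.Prelude.Def_CAlg
import Mathlib.RingTheory.Depth.Rees
import Mathlib.RingTheory.Ideal.AssociatedPrime.Finiteness
import Mathlib.RingTheory.Ideal.AssociatedPrime.Localization
import Mathlib.RingTheory.Ideal.GoingUp
import Mathlib.RingTheory.KrullDimension.Regular
import Mathlib.RingTheory.Localization.AtPrime.Basic
import Mathlib.Algebra.Module.LocalizedModule.AtPrime
import Mathlib.RingTheory.Localization.Finiteness

/-! Regular sequences along a finite extension: depth does not drop. -/

noncomputable section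

open IsLocalRing RingTheory.Sequence Pointwise
open CategoryTheory Abelian

namespace InvLib

universe u

section Local

variable (B : Type u) [CommRing B] [IsLocalRing B]

/-- There is a weakly regular sequence of length `n` in the maximal ideal. -/
def HasSeq (N : Type u) [AddCommGroup N] [Module B N] (n : ℕ) : Prop :=
  ∃ rs : List B, rs.length = n ∧ (∀ r ∈ rs, r ∈ maximalIdeal B) ∧ IsWeaklyRegular N rs

variable {B} {N : Type u} [AddCommGroup N] [Module B N]

lemma HasSeq.congr {N' : Type u} [AddCommGroup N'] [Module B N'] (e : N ≃ₗ[B] N') {n : ℕ}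
    (h : HasSeq B N n) : HasSeq B N' n := by
  obtain ⟨rs, hl, hm, hr⟩ := h
  exact ⟨rs, hl, hm, (e.isWeaklyRegular_congr rs).1 hr⟩

lemma hasSeq_of_subsingleton [Subsingleton N] (n : ℕ) : HasSeq B N n := by
  refine ⟨List.replicate n 0, List.length_replicate, fun r hr => ?_, ?_⟩
  · rw [List.eq_of_mem_replicate hr]; exact Submodule.zero_mem _
  · rw [isWeaklyRegular_iff]
    intro i hi a b _
    exact Subsingleton.elim a b

lemma HasSeq.mono {n m : ℕ} (hnm : n ≤ m) (h : HasSeq B N m) : HasSeq B N n := by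
  obtain ⟨rs, hl, hm, hr⟩ := h
  refine ⟨rs.take n, by simp [hl, hnm], fun r hr => hm r (List.take_subset _ _ hr), ?_⟩
  rw [← List.take_append_drop n rs, isWeaklyRegular_append_iff] at hr
  exact hr.1

lemma hasSeq_of_le_depth [Module.Finite B N] {n : ℕ} (h : (n : ℕ∞) ≤ LocCoh.depth B N) :
    HasSeq B N n := by
  rcases subsingleton_or_nontrivial N with hs | hn
  · exact hasSeq_of_subsingleton n
  rcases Nat.eq_zero_or_pos n with rfl | hpos
  · exact ⟨[], rfl, by simp, IsWeaklyRegular.nil B N⟩
  rw [LocCoh.depth, LocCoh.idealDepth, if_neg (Ne.symm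
    (Submodule.top_ne_ideal_smul_of_le_jacobson_annihilator (maximalIdeal_le_jacobson _)))] at h
  have h' : ((n - 1 : ℕ) : ℕ∞) < ⨆ (rs : List B) (_ : IsWeaklyRegular N rs ∧
      ∀ r ∈ rs, r ∈ maximalIdeal B), (rs.length : ℕ∞) := by
    refine lt_of_lt_of_le ?_ h
    exact_mod_cast Nat.sub_lt hpos Nat.one_pos
  simp only [lt_iSup_iff, Nat.cast_lt] at h'
  obtain ⟨rs, ⟨hr, hm⟩, hlt⟩ := h'
  exact HasSeq.mono (by omega) ⟨rs, rfl, hm, hr⟩

lemma HasSeq.le_depth {n : ℕ} (h : HasSeq B N n) : (n : ℕ∞) ≤ LocCoh.depth B N := by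
  rw [LocCoh.depth, LocCoh.idealDepth]
  split
  · exact le_top
  · obtain ⟨rs, hl, hm, hr⟩ := h
    rw [← hl]
    exact le_iSup₂_of_le rs ⟨hr, hm⟩ le_rfl

lemma depth_le_supportDim [IsNoetherianRing B] [Module.Finite B N] [Nontrivial N] :
    ((LocCoh.depth B N : ℕ∞) : WithBot ℕ∞) ≤ Module.supportDim B N := by
  obtain ⟨d, hd⟩ := WithBot.ne_bot_iff_exists.1 (Module.supportDim_ne_bot_of_nontrivial B N)
  rw [← hd, WithBot.coe_le_coe, LocCoh.depth, LocCoh.idealDepth, if_neg (Ne.symm
    (Submodule.top_ne_ideal_smul_of_le_jacobson_annihilator (maximalIdeal_le_jacobson _)))]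
  refine iSup₂_le fun rs hrs => ?_
  have hreg := IsRegular.of_isWeaklyRegular_of_mem_maximalIdeal N hrs.2 hrs.1
  have := Module.supportDim_add_length_eq_supportDim_of_isRegular rs hreg
  rw [← hd] at this
  have hne : Nontrivial (N ⧸ Ideal.ofList rs • (⊤ : Submodule B N)) :=
    hreg.quot_ofList_smul_nontrivial _
  obtain ⟨e, he⟩ := WithBot.ne_bot_iff_exists.1
    (Module.supportDim_ne_bot_of_nontrivial B (N ⧸ Ideal.ofList rs • (⊤ : Submodule B N)))
  rw [← he] at this
  have : e + (rs.length : ℕ∞) = d := by exact_mod_cast this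
  rw [← this]
  exact le_add_self

/-- Exchange: a regular element lowers the length by one. -/
lemma HasSeq.quotSMulTop [IsNoetherianRing B] [Module.Finite B N] {x : B}
    (hx : x ∈ maximalIdeal B) (hreg : IsSMulRegular N x) {n : ℕ} (h : HasSeq B N (n + 1)) :
    HasSeq B (QuotSMulTop x N) n := by
  rcases subsingleton_or_nontrivial N with hs | hn
  · have : Subsingleton (QuotSMulTop x N) :=
      (Submodule.mkQ_surjective (x • (⊤ : Submodule B N))).subsingleton
    exact hasSeq_of_subsingleton n
  obtain ⟨rs, hl, hm, hr⟩ := h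
  have hlt : ∀ (L : Type u) [AddCommGroup L] [Module B L] [Module.Finite B L] [Nontrivial L],
      maximalIdeal B • (⊤ : Submodule B L) < ⊤ := fun L _ _ _ _ =>
    lt_top_iff_ne_top.2 (Ne.symm
      (Submodule.top_ne_ideal_smul_of_le_jacobson_annihilator (maximalIdeal_le_jacobson _)))
  let K : ModuleCat.{u} B := ModuleCat.of B (B ⧸ maximalIdeal B)
  have hK : Module.support B K = PrimeSpectrum.zeroLocus (maximalIdeal B : Set B) := by
    show Module.support B (B ⧸ maximalIdeal B) = _
    rw [Module.support_eq_zeroLocus, Ideal.annihilator_quotient]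
  have hext := ModuleCat.subsingleton_ext_of_exists_isRegular (maximalIdeal B) K hK.subset
    (ModuleCat.of B N) (hlt N) rs hm (IsRegular.of_isWeaklyRegular_of_mem_maximalIdeal N hm hr)
  have h2 : ∀ i < n, Subsingleton (Ext K (ModuleCat.of B (QuotSMulTop x N)) i) := fun i hi =>
    AddCommGrpCat.subsingleton_of_isZero <| ShortComplex.Exact.isZero_of_both_zeros
      ((Ext.covariant_sequence_exact₃' K
        (IsSMulRegular.smulShortComplex_shortExact (M := ModuleCat.of B N) hreg)) i (i + 1) rfl)
      ((AddCommGrpCat.isZero_of_iff_subsingleton.mpr (hext i (by omega))).eq_zero_of_src _)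
      ((AddCommGrpCat.isZero_of_iff_subsingleton.mpr (hext (i + 1) (by omega))).eq_zero_of_tgt _)
  have := nontrivial_quotSMulTop_of_mem_maximalIdeal N hx
  obtain ⟨rs', hl', hm', hr'⟩ := ModuleCat.exists_isRegular_of_exists_subsingleton_ext
    (maximalIdeal B) n (ModuleCat.of B (QuotSMulTop x N)) (hlt _) K hK h2
  exact ⟨rs', hl', hm', hr'.toIsWeaklyRegular⟩

end Local

section Quot

variable {R : Type u} [CommRing R] (S : Submonoid R) (B : Type u) [CommRing B] [Algebra R B]
  [IsLocalization S B]
  {M M' N : Type u} [AddCommGroup M] [Module R M] [AddCommGroup M'] [Module R M']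
  [AddCommGroup N] [Module R N] [Module B N] [IsScalarTower R B N]

/-- `M / x M` localizes to `N / x N`. -/
lemma exists_isLocalizedModule_quot (f : M →ₗ[R] N) [IsLocalizedModule S f] (x : R)
    (π : M →ₗ[R] M') (hπ : Function.Surjective π) (hker : ∀ m, π m = 0 ↔ ∃ a, m = x • a) :
    ∃ q : M' →ₗ[R] QuotSMulTop (algebraMap R B x) N, IsLocalizedModule S q := by
  let Q := QuotSMulTop (algebraMap R B x) N
  let g : N →ₗ[R] Q := ((algebraMap R B x) • (⊤ : Submodule B N)).mkQ.restrictScalars R
  have hg : ∀ a : N, g a = 0 ↔ ∃ b, a = x • b := by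
    intro a
    show Submodule.Quotient.mk a = (0 : Q) ↔ _
    rw [Submodule.Quotient.mk_eq_zero, Submodule.mem_smul_pointwise_iff_exists]
    simp [algebraMap_smul, eq_comm]
  have hle : LinearMap.ker π ≤ LinearMap.ker (g ∘ₗ f) := by
    intro m hm
    obtain ⟨a, rfl⟩ := (hker m).1 hm
    rw [LinearMap.mem_ker, LinearMap.comp_apply, map_smul, hg]
    exact ⟨f a, rfl⟩
  let q : M' →ₗ[R] Q := (LinearMap.ker π).liftQ (g ∘ₗ f) hle ∘ₗ
    (π.quotKerEquivOfSurjective hπ).symm.toLinearMap
  have hq : ∀ m, q (π m) = g (f m) := by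
    intro m
    have e : (π.quotKerEquivOfSurjective hπ).symm (π m) = Submodule.Quotient.mk m :=
      (LinearEquiv.symm_apply_eq _).2 (LinearMap.quotKerEquivOfSurjective_apply_mk π hπ m).symm
    simp [q, e]
  refine ⟨q, ⟨fun s => ?_, fun y => ?_, fun {a b} hab => ?_⟩⟩
  · obtain ⟨u, hu⟩ := IsLocalization.map_units B s
    refine (Module.End.isUnit_iff _).2 ⟨fun a b hab => ?_, fun c => ⟨(u⁻¹ : Bˣ).val • c, ?_⟩⟩
    · have h1 : (u : B) • a = (u : B) • b := by rw [hu, algebraMap_smul, algebraMap_smul]; exact hab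
      have h2 := congrArg (fun z => (u⁻¹ : Bˣ).val • z) h1
      simpa [smul_smul] using h2
    · show (s : R) • ((u⁻¹ : Bˣ).val • c) = c
      rw [← algebraMap_smul B (s : R), ← hu, smul_smul, Units.mul_inv, one_smul]
  · obtain ⟨a, rfl⟩ := Submodule.mkQ_surjective _ y
    obtain ⟨⟨m, s⟩, hms⟩ := IsLocalizedModule.surj S f a
    refine ⟨⟨π m, s⟩, ?_⟩
    show (s : R) • g a = q (π m)
    rw [hq, ← map_smul]
    exact congrArg g hms
  · obtain ⟨m, rfl⟩ := hπ a
    obtain ⟨m', rfl⟩ := hπ b
    rw [hq, hq, ← sub_eq_zero, ← map_sub, ← map_sub, hg] at hab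
    obtain ⟨c, hc⟩ := hab
    obtain ⟨⟨d, s⟩, hd⟩ := IsLocalizedModule.surj S f c
    have h1 : f ((s : R) • (m - m') - x • d) = 0 := by
      rw [map_sub, map_smul, map_smul, hc, ← show (s : R) • c = f d from hd, smul_comm, sub_self]
    obtain ⟨t, ht⟩ := (IsLocalizedModule.eq_zero_iff S f).1 h1
    refine ⟨t * s, ?_⟩
    rw [← sub_eq_zero, ← smul_sub, ← map_sub, Submonoid.smul_def, ← map_smul, hker]
    refine ⟨(t : R) • d, ?_⟩
    rw [Submonoid.smul_def, smul_sub, sub_eq_zero, smul_smul] at ht
    rw [Submonoid.coe_mul, ht, smul_comm]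

end Quot

section Descent

variable {R : Type u} [CommRing R] (P : Ideal R) [P.IsPrime]

lemma nonempty_equiv_localizedModule_quot {M M' : Type u} [AddCommGroup M] [Module R M]
    [AddCommGroup M'] [Module R M'] (x : R) (π : M →ₗ[R] M') (hπ : Function.Surjective π)
    (hker : ∀ m, π m = 0 ↔ ∃ a, m = x • a) :
    Nonempty (LocalizedModule P.primeCompl M' ≃ₗ[Localization.AtPrime P]
      QuotSMulTop (algebraMap R (Localization.AtPrime P) x) (LocalizedModule P.primeCompl M)) := by
  obtain ⟨q, hq⟩ := exists_isLocalizedModule_quot P.primeCompl (Localization.AtPrime P)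
    (LocalizedModule.mkLinearMap P.primeCompl M) x π hπ hker
  exact ⟨(IsLocalizedModule.iso P.primeCompl q).extendScalarsOfIsLocalization P.primeCompl
    (Localization.AtPrime P)⟩

variable {A : Type u} [CommRing A] [IsNoetherianRing A] [Algebra A R] [Module.Finite A R]
  (p : Ideal A) [p.IsPrime]

lemma notMem_associatedPrimes_of_hasSeq {M : Type u} [AddCommGroup M] [Module R M] [Module A M]
    [IsScalarTower A R M] (h : ∀ (Q : Ideal R) [Q.IsPrime], Q.under A = p →
      HasSeq (Localization.AtPrime Q) (LocalizedModule Q.primeCompl M) 1) :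
    p ∉ associatedPrimes A M := by
  intro hp
  obtain ⟨-, v, hv⟩ := (isAssociatedPrime_iff (R := A) (I := p) (M := M)).1 hp
  let J : Ideal R := (⊥ : Submodule R M).colon {v}
  have hJ : J.comap (algebraMap A R) ≤ p := fun a ha => by
    rw [hv, Submodule.mem_colon_singleton, Submodule.mem_bot]
    rw [Ideal.mem_comap, Submodule.mem_colon_singleton, Submodule.mem_bot, algebraMap_smul] at ha
    exact ha
  have : Algebra.IsIntegral A R := Algebra.IsIntegral.of_finite A R
  obtain ⟨Q, hJQ, hQ, hQp⟩ := Ideal.exists_ideal_over_prime_of_isIntegral p J hJ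
  obtain ⟨rs, hl, hm, hr⟩ := h Q hQp
  obtain ⟨a, rfl⟩ := List.length_eq_one_iff.1 hl
  rw [isWeaklyRegular_singleton_iff] at hr
  let B := Localization.AtPrime Q
  let w := LocalizedModule.mkLinearMap Q.primeCompl M v
  have hw : w ≠ 0 := by
    intro h0
    obtain ⟨t, ht⟩ := (IsLocalizedModule.eq_zero_iff Q.primeCompl
      (LocalizedModule.mkLinearMap Q.primeCompl M)).1 h0
    exact t.2 (hJQ (by rw [Submodule.mem_colon_singleton, Submodule.mem_bot]; exact ht))
  let I : Ideal B := (⊥ : Submodule B (LocalizedModule Q.primeCompl M)).colon {w}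
  have hmI : (Q.under A).map (algebraMap A R) ≤ I.comap (algebraMap R B) := by
    rw [Ideal.map_le_iff_le_comap]
    intro c hc
    rw [show Q.under A = p from hQp, hv, Submodule.mem_colon_singleton, Submodule.mem_bot] at hc
    simp only [Ideal.mem_comap, I, Submodule.mem_colon_singleton, Submodule.mem_bot, algebraMap_smul]
    rw [← algebraMap_smul R c w, ← map_smul, algebraMap_smul, hc, map_zero]
  have hmem : a ∈ I.radical := by
    rw [Ideal.radical_eq_sInf, Ideal.mem_sInf]
    rintro K ⟨hIK, hK⟩
    have hle : K.comap (algebraMap R B) ≤ Q := by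
      have := Ideal.comap_mono (f := algebraMap R B) (IsLocalRing.le_maximalIdeal hK.ne_top)
      rwa [← Ideal.under_def, ← Ideal.under_def, Localization.AtPrime.under_maximalIdeal] at this
    have hmin := Ideal.IsIntegral.mem_minimalPrimes_map_under (R := A) Q
    have hQle : Q ≤ K.comap (algebraMap R B) :=
      hmin.2 ⟨hK.comap _, hmI.trans (Ideal.comap_mono hIK)⟩ hle
    have : maximalIdeal B ≤ K := by
      rw [← IsLocalization.map_under Q.primeCompl B K, ← Localization.AtPrime.map_eq_maximalIdeal]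
      exact Ideal.map_mono hQle
    exact this (hm a (List.mem_singleton_self a))
  obtain ⟨e, he⟩ := hmem
  rw [Submodule.mem_colon_singleton, Submodule.mem_bot] at he
  exact hw ((hr.pow e).right_eq_zero_of_smul he)

set_option maxHeartbeats 2000000 in
/-- Regular sequences at all primes of `R` over `p` give one at `p`. -/
theorem hasSeq_descent (n : ℕ) : ∀ (M : Type u) [AddCommGroup M] [Module R M] [Module A M]
    [IsScalarTower A R M] [Module.Finite R M],
    (∀ (Q : Ideal R) [Q.IsPrime], Q.under A = p →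
      HasSeq (Localization.AtPrime Q) (LocalizedModule Q.primeCompl M) n) →
    HasSeq (Localization.AtPrime p) (LocalizedModule p.primeCompl M) n := by
  have : IsNoetherianRing R := IsNoetherianRing.of_finite A R
  induction n with
  | zero => exact fun M _ _ _ _ _ _ => ⟨[], rfl, by simp, IsWeaklyRegular.nil _ _⟩
  | succ n ih =>
    intro M _ _ _ _ _ h
    have : Module.Finite A M := Module.Finite.trans R M
    have hp := notMem_associatedPrimes_of_hasSeq p fun Q _ hQ => (h Q hQ).mono (Nat.le_add_left 1 n)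
    have hfin := associatedPrimes.finite A M
    classical
    let T := hfin.toFinset.filter (fun q => q ≤ p)
    obtain ⟨x, hxp, hxT⟩ : ∃ x ∈ p, ∀ q ∈ T, x ∉ q := by
      by_contra hcon
      push_neg at hcon
      have hsub : (p : Set A) ⊆ ⋃ q ∈ T, (q : Set A) := fun x hx => by
        simpa using hcon x hx
      obtain ⟨q, hq, hpq⟩ := (Ideal.subset_union_prime ⊥ ⊥ (fun i hi _ _ =>
        ((hfin.mem_toFinset.1 (Finset.mem_filter.1 hi).1).isPrime))).1 hsub
      obtain ⟨hq1, hq2⟩ := Finset.mem_filter.1 hq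
      exact hp (le_antisymm hq2 hpq ▸ hfin.mem_toFinset.1 hq1)
    let Mp := LocalizedModule p.primeCompl M
    let B := Localization.AtPrime p
    have hreg : IsSMulRegular Mp (algebraMap A B x) := by
      by_contra hcon
      have h1 : algebraMap A B x ∈ ({ r : B | IsSMulRegular Mp r })ᶜ := hcon
      rw [← biUnion_associatedPrimes_eq_compl_regular B Mp, Set.mem_iUnion₂] at h1
      obtain ⟨K, hK, hxK⟩ := h1
      have hK' := Module.associatedPrimes.comap_mem_associatedPrimes_of_mem_associatedPrimes_of_isLocalizedModule_of_fg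
        p.primeCompl (LocalizedModule.mkLinearMap p.primeCompl M) K hK
        (IsNoetherian.noetherian _)
      have hle : K.comap (algebraMap A B) ≤ p := by
        have := Ideal.comap_mono (f := algebraMap A B)
          (IsLocalRing.le_maximalIdeal (hK.isPrime).ne_top)
        rwa [← Ideal.under_def, ← Ideal.under_def, Localization.AtPrime.under_maximalIdeal] at this
      exact hxT _ (Finset.mem_filter.2 ⟨hfin.mem_toFinset.2 hK', hle⟩) hxK
    let x' := algebraMap A R x
    let π : M →ₗ[R] QuotSMulTop x' M := Submodule.mkQ _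
    have hkerR : ∀ m, π m = 0 ↔ ∃ a, m = x' • a := fun m => by
      show (Submodule.Quotient.mk m : QuotSMulTop x' M) = 0 ↔ _
      rw [Submodule.Quotient.mk_eq_zero, Submodule.mem_smul_pointwise_iff_exists]
      simp [eq_comm]
    have hkerA : ∀ m, π.restrictScalars A m = 0 ↔ ∃ a, m = x • a := fun m => by
      simp [hkerR, x', algebraMap_smul]
    have hM' : HasSeq (Localization.AtPrime p) (LocalizedModule p.primeCompl (QuotSMulTop x' M)) n := by
      refine ih _ fun Q _ hQ => ?_
      obtain ⟨e⟩ := nonempty_equiv_localizedModule_quot Q x' π (Submodule.mkQ_surjective _) hkerR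
      refine HasSeq.congr e.symm ((h Q hQ).quotSMulTop ?_ ?_)
      · rw [IsLocalization.AtPrime.to_map_mem_maximal_iff (Localization.AtPrime Q) Q]
        show x ∈ Q.under A
        rw [hQ]; exact hxp
      · refine (isSMulRegular_iff_right_eq_zero_of_smul).2 fun y hy => ?_
        obtain ⟨⟨m, s⟩, rfl⟩ := IsLocalizedModule.mk'_surjective Q.primeCompl
          (LocalizedModule.mkLinearMap Q.primeCompl M) y
        simp only [Function.uncurry_apply_pair, algebraMap_smul, ← IsLocalizedModule.mk'_smul,
          IsLocalizedModule.mk'_eq_zero'] at hy ⊢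
        obtain ⟨t, ht⟩ := hy
        have h0 : LocalizedModule.mkLinearMap p.primeCompl M ((t : R) • m) = 0 := by
          refine hreg.right_eq_zero_of_smul ?_
          rw [algebraMap_smul, ← map_smul, smul_comm x, ← algebraMap_smul R x]
          show LocalizedModule.mkLinearMap p.primeCompl M ((t : R) • x' • m) = 0
          rw [← Submonoid.smul_def, ht, map_zero]
        obtain ⟨c, hc⟩ := (IsLocalizedModule.eq_zero_iff p.primeCompl
          (LocalizedModule.mkLinearMap p.primeCompl M)).1 h0
        refine ⟨⟨algebraMap A R c, fun hcQ => c.2 (show (c : A) ∈ p from hQ ▸ hcQ)⟩ * t, ?_⟩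
        rw [Submonoid.smul_def, Submonoid.coe_mul, mul_smul, algebraMap_smul]
        exact hc
    obtain ⟨e⟩ := nonempty_equiv_localizedModule_quot p x (π.restrictScalars A)
      (Submodule.mkQ_surjective _) hkerA
    obtain ⟨rs, hl, hm, hr⟩ := HasSeq.congr e hM'
    refine ⟨algebraMap A B x :: rs, by simp [hl], ?_, IsWeaklyRegular.cons hreg hr⟩
    simp only [List.mem_cons, forall_eq_or_imp]
    exact ⟨(IsLocalization.AtPrime.to_map_mem_maximal_iff B p x).2 hxp, hm⟩

end Descent

end InvLib

end
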