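import Mathlib.RingTheory.IntegralClosure.IntegrallyClosed
import Mathlib.RingTheory.Localization.FractionRing
import Mathlib.Algebra.Ring.Subring.Basic

/-! The equalizer of maps out of a finite product of normal domains. -/

noncomputable section

namespace InvLib

universe u

variable {ι : Type u} [Fintype ι] (D : ι → Type u) [∀ i, CommRing (D i)] [∀ i, IsDomain (D i)]
  [∀ i, IsIntegrallyClosed (D i)] {R : Type u} [CommRing R] (F : Set ((Π i, D i) →+* R))
  (hF : ∀ f ∈ F, ∀ s ∈ nonZeroDivisors (Π i, D i), f s ∈ nonZeroDivisors R)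
  (A : Subring (Π i, D i)) (hA : ∀ a, a ∈ A ↔ ∀ f ∈ F, ∀ f' ∈ F, f a = f' a)

omit [Fintype ι] [∀ i, IsIntegrallyClosed (D i)] in
lemma mem_nonZeroDivisors_pi {s : Π i, D i} (h : ∀ i, s i ≠ 0) : s ∈ nonZeroDivisors (Π i, D i) := by
  rw [mem_nonZeroDivisors_iff_right]
  intro z hz
  funext i
  have := congrFun hz i
  simp only [Pi.mul_apply, Pi.zero_apply, mul_eq_zero] at this
  exact this.resolve_right (h i)

open scoped Classical in
/-- The idempotent of the support of `a`. -/
def supp (a : Π i, D i) : Π i, D i := fun i => if a i = 0 then 0 else 1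

include hF hA in
lemma supp_mem {a : Π i, D i} (ha : a ∈ A) : supp D a ∈ A := by
  classical
  rw [hA] at ha ⊢
  intro f hf f' hf'
  set e := supp D a
  have hee : e * e = e := by funext i; simp [e, supp]
  have hae : a * e = a := by funext i; by_cases h : a i = 0 <;> simp [e, supp, h]
  have hnz : a + (1 - e) ∈ nonZeroDivisors (Π i, D i) := mem_nonZeroDivisors_pi D fun i => by
    by_cases h : a i = 0 <;> simp [e, supp, h]
  have key : ∀ g ∈ F, ∀ g' ∈ F, g e * (1 - g' e) = 0 := by
    intro g hg g' hg'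
    have h1 := hF g hg _ hnz
    rw [mem_nonZeroDivisors_iff_right] at h1
    apply h1
    have h2 : g a * g' e = g a := by rw [ha g hg g' hg', ← map_mul, hae]
    have h3 : g a * g e = g a := by rw [← map_mul, hae]
    have h4 : g e * g e = g e := by rw [← map_mul, hee]
    rw [map_add, map_sub, map_one]
    linear_combination (1 - g' e) * h3 - h2 - (1 - g' e) * h4
  have k1 := key f hf f' hf'
  have k2 := key f' hf' f hf
  linear_combination k1 - k2

lemma isIntegrallyClosed_of_forall_dvd {T : Type*} [CommRing T] [IsDomain T] {J : Type*}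
    (D' : J → Type*) [∀ j, CommRing (D' j)] [∀ j, IsDomain (D' j)] [∀ j, IsIntegrallyClosed (D' j)]
    (pr : ∀ j, T →+* D' j) (hinj : ∀ j, Function.Injective (pr j))
    (h : ∀ a b : T, b ≠ 0 → (∀ j, pr j b ∣ pr j a) → b ∣ a) : IsIntegrallyClosed T := by
  rw [isIntegrallyClosed_iff (FractionRing T)]
  intro x hx
  obtain ⟨a, b, hb, rfl⟩ := IsFractionRing.div_surjective T x
  have hb0 : b ≠ 0 := nonZeroDivisors.ne_zero hb
  obtain ⟨s, hs⟩ := h a b hb0 fun j => by
    have hi : Function.Injective ((algebraMap (D' j) (FractionRing (D' j))).comp (pr j)) :=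
      (IsFractionRing.injective (D' j) _).comp (hinj j)
    obtain ⟨φ, hlift⟩ : ∃ φ : FractionRing T →+* FractionRing (D' j), ∀ y : T,
        φ (algebraMap T (FractionRing T) y) = algebraMap (D' j) (FractionRing (D' j)) (pr j y) :=
      ⟨IsFractionRing.lift hi, fun y => IsFractionRing.lift_algebraMap hi y⟩
    have hcomp : φ.comp (algebraMap T (FractionRing T)) =
        (algebraMap (D' j) (FractionRing (D' j))).comp (pr j) :=
      RingHom.ext hlift
    have hφ : IsIntegral (D' j) (φ (algebraMap T _ a / algebraMap T _ b)) := by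
      obtain ⟨P, hP, hPx⟩ := hx
      refine ⟨P.map (pr j), hP.map _, ?_⟩
      rw [Polynomial.eval₂_map, ← hcomp, ← Polynomial.hom_eval₂, hPx, map_zero]
    obtain ⟨s, hs⟩ := (isIntegrallyClosed_iff (FractionRing (D' j))).1 inferInstance hφ
    refine ⟨s, IsFractionRing.injective (D' j) (FractionRing (D' j)) ?_⟩
    rw [map_div₀, hlift, hlift, eq_div_iff] at hs
    · rw [map_mul, mul_comm]; exact hs.symm
    · exact fun e => hb0 (hinj j ((IsFractionRing.injective (D' j) (FractionRing (D' j))
        (e.trans (map_zero _).symm)).trans (map_zero _).symm))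
  refine ⟨s, ?_⟩
  rw [eq_div_iff (IsFractionRing.to_map_ne_zero_of_mem_nonZeroDivisors hb), ← map_mul, hs, mul_comm]

include hF hA in
/-- The equalizer is a finite product of normal domains. -/
theorem exists_equiv_pi : ∃ (κ : Type u) (_ : Fintype κ) (E : κ → Type u) (_ : ∀ j, CommRing (E j))
    (_ : ∀ j, IsDomain (E j)) (_ : ∀ j, IsIntegrallyClosed (E j)), Nonempty (A ≃+* Π j, E j) := by
  classical
  let S : Setoid ι :=
    { r := fun i j => ∀ a ∈ A, a i = 0 ↔ a j = 0
      iseqv := ⟨fun _ _ _ => Iff.rfl, fun h a ha => (h a ha).symm,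
        fun h h' a ha => (h a ha).trans (h' a ha)⟩ }
  let κ := Quotient S
  let q : ι → κ := Quotient.mk S
  have hqsurj : Function.Surjective q := Quotient.mk_surjective
  let res : ∀ c : κ, (Π i, D i) →+* (Π i : {i // q i = c}, D i.1) := fun c =>
    Pi.ringHom fun i => Pi.evalRingHom D i.1
  let E : ∀ c : κ, Subring (Π i : {i // q i = c}, D i.1) := fun c => A.map (res c)
  -- the idempotent of a class
  have hsep : ∀ i j, q i ≠ q j → ∃ e ∈ A, e i = 1 ∧ e j = 0 := by
    intro i j hij
    have : ¬ ∀ a ∈ A, a i = 0 ↔ a j = 0 := fun h => hij (Quotient.sound h)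
    push Not at this
    obtain ⟨a, ha, ⟨h1, h2⟩ | ⟨h1, h2⟩⟩ := this
    · exact ⟨1 - supp D a, A.sub_mem A.one_mem (supp_mem D F hF A hA ha), by simp [supp, h1],
        by simp [supp, h2]⟩
    · exact ⟨supp D a, supp_mem D F hF A hA ha, by simp [supp, h1], by simp [supp, h2]⟩
  let ind : κ → Π i, D i := fun c i => if q i = c then 1 else 0
  have hind : ∀ c, ind c ∈ A := by
    intro c
    obtain ⟨i₀, rfl⟩ := hqsurj c
    have hch : ∀ j, ∃ e ∈ A, e i₀ = 1 ∧ (q j ≠ q i₀ → e j = 0) ∧ supp D e = e := by
      intro j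
      by_cases hj : q j = q i₀
      · exact ⟨1, A.one_mem, rfl, fun h => (h hj).elim, funext fun i => by simp [supp]⟩
      · obtain ⟨e, he, h1, h2⟩ := hsep i₀ j (Ne.symm hj)
        exact ⟨supp D e, supp_mem D F hF A hA he, by simp [supp, h1],
          fun _ => by simp [supp, h2], funext fun i => by by_cases h : e i = 0 <;> simp [supp, h]⟩
    choose e he h1 h2 h3 using hch
    have hprod : ∏ j, e j ∈ A := A.prod_mem fun j _ => he j
    have : ind (q i₀) = supp D (∏ j, e j) := by
      funext i
      simp only [ind, supp, Finset.prod_apply]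
      by_cases hi : q i = q i₀
      · rw [if_pos hi, if_neg]
        rw [Finset.prod_eq_zero_iff]
        rintro ⟨j, -, hj⟩
        have hrel : ∀ a ∈ A, a i = 0 ↔ a i₀ = 0 := Quotient.exact hi
        have := (hrel (e j) (he j)).1 hj
        rw [h1] at this
        exact one_ne_zero this
      · rw [if_neg hi, if_pos]
        exact Finset.prod_eq_zero (Finset.mem_univ i) (h2 i hi)
    rw [this]
    exact supp_mem D F hF A hA hprod
  have hclass : ∀ (c : κ) (a : Π i, D i), a ∈ A → ∀ i j : {i // q i = c}, a i.1 = 0 → a j.1 = 0 :=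
    fun c a ha i j h => ((Quotient.exact (i.2.trans j.2.symm) : ∀ a ∈ A, a i.1 = 0 ↔ a j.1 = 0) a ha).1 h
  have hdom : ∀ c, IsDomain (E c) := by
    intro c
    obtain ⟨i₀, rfl⟩ := hqsurj c
    let pr : E (q i₀) →+* D i₀ := (Pi.evalRingHom _ ⟨i₀, rfl⟩).comp (E (q i₀)).subtype
    refine Function.Injective.isDomain pr ?_
    rw [injective_iff_map_eq_zero]
    rintro ⟨_, a, ha, rfl⟩ h
    refine Subtype.ext (funext fun j => ?_)
    exact hclass _ a ha ⟨i₀, rfl⟩ j h
  have hnorm : ∀ c, IsIntegrallyClosed (E c) := by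
    intro c
    have := hdom c
    let pr : ∀ i : {i // q i = c}, E c →+* D i.1 := fun i => (Pi.evalRingHom _ i).comp (E c).subtype
    refine isIntegrallyClosed_of_forall_dvd (fun i : {i // q i = c} => D i.1) pr (fun i => ?_) ?_
    · rw [injective_iff_map_eq_zero]
      rintro ⟨_, d, hd, rfl⟩ h
      exact Subtype.ext (funext fun j => hclass c d hd i j h)
    rintro ⟨_, a, ha, rfl⟩ ⟨_, b, hb, rfl⟩ hb0 hdvd
    have hbi : ∀ i : {i // q i = c}, b i.1 ≠ 0 := by
      intro i hi
      exact hb0 (Subtype.ext (funext fun j => hclass c b hb i j hi))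
    choose s hs' using hdvd
    have hs : ∀ i : {i // q i = c}, a i.1 = b i.1 * s i := hs'
    clear hs'
    let s' : Π i, D i := fun i => if h : q i = c then s ⟨i, h⟩ else 0
    have hs' : s' ∈ A := by
      rw [hA]
      intro f hf f' hf'
      have hnz : b * ind c + (1 - ind c) ∈ nonZeroDivisors (Π i, D i) :=
        mem_nonZeroDivisors_pi D fun i => by
          by_cases h : q i = c
          · simpa [ind, h] using hbi ⟨i, h⟩
          · simp [ind, h]
      have hmem : b * ind c + (1 - ind c) ∈ A :=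
        A.add_mem (A.mul_mem hb (hind c)) (A.sub_mem A.one_mem (hind c))
      have heq : s' * (b * ind c + (1 - ind c)) = a * ind c := by
        funext i
        by_cases h : q i = c
        · simp [s', ind, h, hs ⟨i, h⟩, mul_comm]
        · simp [s', ind, h]
      have h1 := congrArg f heq
      have h2 := congrArg f' heq
      rw [map_mul] at h1 h2
      rw [← (hA _).1 hmem f hf f' hf', ← (hA _).1 (A.mul_mem ha (hind c)) f hf f' hf', ← h1] at h2
      exact ((mul_cancel_right_mem_nonZeroDivisors (hF f hf _ hnz)).1 h2).symm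
    refine ⟨⟨res c s', s', hs', rfl⟩, Subtype.ext (funext fun i => ?_)⟩
    show a i.1 = b i.1 * s' i.1
    simp [s', i.2, hs i]
  refine ⟨κ, inferInstance, fun c => E c, inferInstance, hdom, hnorm,
    ⟨RingEquiv.ofBijective (Pi.ringHom fun c => (res c).restrict A (E c) fun a ha => ⟨a, ha, rfl⟩) ⟨?_, ?_⟩⟩⟩
  · intro a a' h
    refine Subtype.ext (funext fun i => ?_)
    exact congrFun (congrArg Subtype.val (congrFun h (q i))) ⟨i, rfl⟩
  · intro y
    choose a ha hay using fun c => (y c).2
    refine ⟨⟨∑ c, a c * ind c, A.sum_mem fun c _ => A.mul_mem (ha c) (hind c)⟩, funext fun c => ?_⟩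
    refine Subtype.ext (funext fun i => ?_)
    rw [← hay c]
    show (∑ d, a d * ind d) i.1 = a c i.1
    rw [Finset.sum_apply, Finset.sum_eq_single c]
    · simp [ind, i.2]
    · intro d _ hd; simp [ind, i.2, Ne.symm hd]
    · simp

end InvLib

end
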