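import Groth.Agent.InvLib.FiniteQuot
import Groth.Agent.InvLib.Depth
import Groth.Agent.ComodLib.LinRed

/-! Serre's conditions and Cohen–Macaulayness pass to invariants of linearly reductive finite group schemes. -/

noncomputable section

open TensorProduct HopfRep

namespace InvLib

universe u

section Retract

variable {B : Type u} [CommRing B]

open RingTheory.Sequence Pointwise in
lemma isWeaklyRegular_of_retract : ∀ (rs : List B) (N N' : Type u) [AddCommGroup N] [Module B N]
    [AddCommGroup N'] [Module B N'] (i : N →ₗ[B] N') (π : N' →ₗ[B] N),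
    π ∘ₗ i = LinearMap.id → IsWeaklyRegular N' rs → IsWeaklyRegular N rs := by
  intro rs
  induction rs with
  | nil => intros; exact IsWeaklyRegular.nil B _
  | cons r rs ih =>
    intro N N' _ _ _ _ i π hπ hreg
    rw [isWeaklyRegular_cons_iff] at hreg ⊢
    refine ⟨?_, ih (QuotSMulTop r N) (QuotSMulTop r N') (QuotSMulTop.map r i) (QuotSMulTop.map r π) ?_ hreg.2⟩
    · intro a b hab
      have h := hreg.1 (show r • i a = r • i b by rw [← map_smul, ← map_smul]; exact congrArg i hab)
      have := congrArg π h
      rwa [← LinearMap.comp_apply, ← LinearMap.comp_apply, hπ] at this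
    · rw [← QuotSMulTop.map_comp, hπ, QuotSMulTop.map_id]

end Retract

variable (k : Type u) [Field k] (H : Type u) [CommRing H] [HopfAlgebra k H]
  (R : Type u) [CommRing R] [Algebra k R] [Comod k H R] [GLin.IsCoactAlg k H R]

local notation "𝒜" => GLin.invariants k H R

lemma slice_tmul_one_mul (g : H →ₗ[k] k) (a : R) (z : R ⊗[k] H) :
    ComodLib.slice g ((a ⊗ₜ[k] (1 : H)) * z) = a * ComodLib.slice g z := by
  induction z with
  | zero => simp
  | tmul x c => simp [Algebra.TensorProduct.tmul_mul_tmul]
  | add z z' hz hz' => simp only [mul_add, map_add, hz, hz']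

/-- A linear retraction of `R` onto the invariants. -/
lemma exists_retraction (hG : IsLinearlyReductive k H) :
    ∃ π : R →ₗ[𝒜] 𝒜, π ∘ₗ Algebra.linearMap 𝒜 R = LinearMap.id := by
  obtain ⟨α, hα, h1⟩ := ComodLib.exists_invariant_of_isLinearlyReductive hG
  refine ⟨{ toFun := fun x => ⟨ComodLib.reynolds R α x, ComodLib.reynolds_mem hα x⟩
            map_add' := fun x y => Subtype.ext (map_add _ x y)
            map_smul' := fun a x => Subtype.ext ?_ },
    LinearMap.ext fun a => Subtype.ext (ComodLib.reynolds_fixed h1 a.2)⟩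
  show ComodLib.reynolds R α ((a : R) * x) = (a : R) * ComodLib.reynolds R α x
  simp only [ComodLib.reynolds, LinearMap.comp_apply]
  rw [GLin.IsCoactAlg.coact_mul (k := k) (A := H), a.2, slice_tmul_one_mul]

/-- The identification of a localization as a module. -/
def localizationEquiv {T : Type u} [CommRing T] (P : Ideal T) [P.IsPrime] :
    LocalizedModule P.primeCompl T ≃ₗ[Localization.AtPrime P] Localization.AtPrime P :=
  (IsLocalizedModule.iso P.primeCompl (Algebra.linearMap T (Localization.AtPrime P)))
    |>.extendScalarsOfIsLocalization P.primeCompl (Localization.AtPrime P)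

lemma supportDim_localized_self {T : Type u} [CommRing T] (P : Ideal T) [P.IsPrime] :
    Module.supportDim (Localization.AtPrime P) (LocalizedModule P.primeCompl T) = P.height := by
  rw [Module.supportDim_eq_of_equiv (localizationEquiv P), Module.supportDim_self_eq_ringKrullDim,
    IsLocalization.AtPrime.ringKrullDim_eq_height P]

variable [Module.Finite k H] [Algebra.FiniteType k R]

lemma supportDim_localized_eq (p : Ideal 𝒜) [p.IsPrime] :
    Module.supportDim (Localization.AtPrime p) (LocalizedModule p.primeCompl R) =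
      ringKrullDim (Localization.AtPrime p) := by
  have := finite_invariants k H R
  refine le_antisymm (Module.supportDim_le_ringKrullDim _ _) ?_
  rw [← Module.supportDim_self_eq_ringKrullDim, ← Module.supportDim_eq_of_equiv (localizationEquiv p)]
  exact Module.supportDim_le_of_injective (LocalizedModule.map p.primeCompl (Algebra.linearMap 𝒜 R))
    (LocalizedModule.map_injective _ _ Subtype.val_injective)

/-- The depth estimate. -/
theorem le_depth_invariants (hG : IsLinearlyReductive k H) (p : Ideal 𝒜) [p.IsPrime] (n : ℕ)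
    (h : ∀ (Q : Ideal R) [Q.IsPrime], Q.under 𝒜 = p →
      (n : ℕ∞) ≤ LocCoh.depth (Localization.AtPrime Q) (LocalizedModule Q.primeCompl R)) :
    (n : ℕ∞) ≤ LocCoh.depth (Localization.AtPrime p) (LocalizedModule p.primeCompl R) ∧
      (n : ℕ∞) ≤ LocCoh.depth (Localization.AtPrime p) (LocalizedModule p.primeCompl 𝒜) ∧
      (n : ℕ∞) ≤ LocCoh.depth (Localization.AtPrime p) (Localization.AtPrime p) := by
  have := finite_invariants k H R
  have := isNoetherianRing_invariants k H R
  have hs := hasSeq_descent (A := 𝒜) p n R fun Q _ hQ => hasSeq_of_le_depth (h Q hQ)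
  obtain ⟨π, hπ⟩ := exists_retraction k H R hG
  have hs' : HasSeq (Localization.AtPrime p) (LocalizedModule p.primeCompl 𝒜) n := by
    obtain ⟨rs, hl, hm, hr⟩ := hs
    refine ⟨rs, hl, hm, isWeaklyRegular_of_retract rs _ _
      (LocalizedModule.map p.primeCompl (Algebra.linearMap 𝒜 R)) (LocalizedModule.map p.primeCompl π) ?_ hr⟩
    refine LinearMap.ext fun y => ?_
    induction y using LocalizedModule.induction_on with
    | h m s =>
      simp only [LinearMap.comp_apply, LocalizedModule.map_mk]
      rw [← LinearMap.comp_apply π, hπ]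
      rfl
  exact ⟨hs.le_depth, hs'.le_depth, (hs'.congr (localizationEquiv p)).le_depth⟩

theorem hasSk_invariants (hG : IsLinearlyReductive k H) (r : ℕ) (hR : LocCoh.HasSk r R R) :
    LocCoh.HasSk r 𝒜 R ∧ LocCoh.HasSk r 𝒜 𝒜 := by
  have key : ∀ (p : Ideal 𝒜) [p.IsPrime],
      min (r : WithBot ℕ∞) (p.height : WithBot ℕ∞) ≤
        ((LocCoh.depth (Localization.AtPrime p) (LocalizedModule p.primeCompl R) : ℕ∞) : WithBot ℕ∞) ∧
      min (r : WithBot ℕ∞) (p.height : WithBot ℕ∞) ≤
        ((LocCoh.depth (Localization.AtPrime p) (LocalizedModule p.primeCompl 𝒜) : ℕ∞) : WithBot ℕ∞) := by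
    intro p _
    obtain ⟨n, hn⟩ : ∃ n : ℕ, ((n : ℕ∞)) = min (r : ℕ∞) p.height :=
      ⟨(min (r : ℕ∞) p.height).toNat, ENat.coe_toNat
        (ne_top_of_le_ne_top (ENat.coe_ne_top r) (min_le_left _ _))⟩
    have hmin : min (r : WithBot ℕ∞) (p.height : WithBot ℕ∞) = ((n : ℕ∞) : WithBot ℕ∞) := by
      rw [hn, WithBot.coe_min]; rfl
    rw [hmin, WithBot.coe_le_coe, WithBot.coe_le_coe]
    obtain ⟨h1, h2, -⟩ := le_depth_invariants k H R hG p n fun Q _ hQ => by
      have h := hR Q
      rw [supportDim_localized_self] at h
      rw [← WithBot.coe_le_coe, ← hmin]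
      refine le_trans (min_le_min le_rfl ?_) h
      rw [WithBot.coe_le_coe, ← hQ]
      exact height_under_le k H R Q
    exact ⟨h1, h2⟩
  constructor
  · intro p _
    rw [supportDim_localized_eq, IsLocalization.AtPrime.ringKrullDim_eq_height p]
    exact (key p).1
  · intro p _
    rw [supportDim_localized_self]
    exact (key p).2

theorem isCohenMacaulay_invariants (hG : IsLinearlyReductive k H) (hR : LocCoh.IsCohenMacaulayRing R) :
    LocCoh.IsCohenMacaulayRing 𝒜 ∧ ∀ (p : Ideal 𝒜) [p.IsPrime],
      LocCoh.IsCohenMacaulayModule (Localization.AtPrime p) (LocalizedModule p.primeCompl R) ∧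
        Module.supportDim (Localization.AtPrime p) (LocalizedModule p.primeCompl R) =
          ringKrullDim (Localization.AtPrime p) := by
  have := finite_invariants k H R
  have hN := isNoetherianRing_invariants k H R
  have key : ∀ (p : Ideal 𝒜) [p.IsPrime],
      p.height ≤ LocCoh.depth (Localization.AtPrime p) (LocalizedModule p.primeCompl R) ∧
        p.height ≤ LocCoh.depth (Localization.AtPrime p) (Localization.AtPrime p) := by
    intro p _
    obtain ⟨n, hn⟩ : ∃ n : ℕ, ((n : ℕ∞)) = p.height :=
      ⟨p.height.toNat, ENat.coe_toNat Ideal.height_ne_top_of_isPrime⟩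
    obtain ⟨h1, -, h3⟩ := le_depth_invariants k H R hG p n fun Q _ hQ => by
      have h := (hR.isCohenMacaulayLocalRing_localization Q).supportDim_eq_depth
      rw [Module.supportDim_self_eq_ringKrullDim, IsLocalization.AtPrime.ringKrullDim_eq_height Q,
        WithBot.coe_inj] at h
      have hle : (n : ℕ∞) ≤ LocCoh.depth (Localization.AtPrime Q) (Localization.AtPrime Q) := by
        rw [hn, ← h, ← hQ]; exact height_under_le k H R Q
      exact ((hasSeq_of_le_depth hle).congr (localizationEquiv Q).symm).le_depth
    exact ⟨hn ▸ h1, hn ▸ h3⟩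
  refine ⟨@LocCoh.IsCohenMacaulayRing.mk _ _ hN (fun p _ => ?_),
    fun p _ => ⟨?_, supportDim_localized_eq k H R p⟩⟩
  · have : IsNoetherianRing (Localization.AtPrime p) := IsLocalization.isNoetherianRing p.primeCompl _ hN
    refine { supportDim_eq_depth := le_antisymm ?_ depth_le_supportDim }
    rw [Module.supportDim_self_eq_ringKrullDim, IsLocalization.AtPrime.ringKrullDim_eq_height p,
      WithBot.coe_le_coe]
    exact (key p).2
  · have : IsNoetherianRing (Localization.AtPrime p) := IsLocalization.isNoetherianRing p.primeCompl _ hN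
    have : Module.Finite (Localization.AtPrime p) (LocalizedModule p.primeCompl R) :=
      Module.Finite.of_isLocalizedModule p.primeCompl (LocalizedModule.mkLinearMap p.primeCompl R)
    have hne : Module.supportDim (Localization.AtPrime p) (LocalizedModule p.primeCompl R) ≠ ⊥ := by
      rw [supportDim_localized_eq]; exact ringKrullDim_ne_bot
    have : Nontrivial (LocalizedModule p.primeCompl R) :=
      (Module.supportDim_ne_bot_iff_nontrivial _ _).1 hne
    refine le_antisymm ?_ depth_le_supportDim
    rw [supportDim_localized_eq, IsLocalization.AtPrime.ringKrullDim_eq_height p, WithBot.coe_le_coe]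
    exact (key p).1

end InvLib

end
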